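import Cfsg.Agent.H526.ObComp
import Cfsg.Agent.H424.BlockTools2
import Cfsg.Agent.H809.SelfCentPSU
import Cfsg.Agent.S0914
import Cfsg.Agent.S0283
import Cfsg.Agent.CTwoTab.Card
import Cfsg.Agent.SmallSimple.S1000.PSLFacts
import Cfsg.Agent.H113.PSU.Facts

/-!
# `PSU_3(3)` and `PSU_4(3)` have more than one 2-block (helper113)

Both have a self-centralizing Sylow 7-subgroup of order `7` with automizer of order `3`; the degrees of the principal 7-block
give an irreducible character of degree `8` or `32` (`PSU_3(3)`), of degree `640` (`PSU_4(3)`).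
-/

set_option autoImplicit false

open Cfsg

namespace Cfsg.Agent.H113.OB

open Cfsg.Agent Cfsg.Agent.Characters.Core Cfsg.Agent.H526.OB
open Cfsg.Agent.SmallSimple.LocalData Cfsg.Agent.SmallSimple.DegreeData Cfsg.Agent.H424.BlockTools
  Cfsg.Agent.H424.BlockTools2 Subgroup

universe u

section

variable {G : Type u} [Group G] [Finite G]

/-- a nonlinear irreducible character of 2-defect zero -/
theorem nb_of_defect_zero {d : ℕ} (hd : d ∈ charDegrees G) (h1 : d ≠ 1) (h : ¬ 2 ∣ Nat.card G / d) : NB G := by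
  obtain ⟨χ, rfl⟩ := hd
  intro M hM
  have : Fact (Nat.Prime 2) := ⟨Nat.prime_two⟩
  have hprime := Blocks.Local.isPrime_of_isPModular hM
  refine ⟨χ, fun hmem => h1 ?_⟩
  have h2 := (S0914.result 2 M hM χ).1 h
  have h3 : triv G ∈ blockOf M (χ : G → ℂ) := Blocks.Basic.sameBlock_symm hmem
  rw [h2, Set.mem_singleton_iff] at h3
  rw [← h3]
  exact Blocks.Knorr.charDegree_of_natCast (by simp [triv])

/-- the local data at `7` -/
theorem data_seven [IsSimpleGroup G] (hG : ¬ IsMulCommutative G) {n : ℕ} (hn : Nat.card G = n)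
    (h7 : 7 ∣ n) (h49 : ¬ 7 ^ 2 ∣ n) (hmod : n / 7 % 7 = 3) (R : Subgroup G) (hR : Nat.card R = 7)
    (hC : centralizer (R : Set G) = R) : Data G 7 3 1 := by
  subst hn
  have hp : Nat.Prime 7 := by norm_num
  have : Fact (Nat.Prime 7) := ⟨hp⟩
  obtain ⟨e, k, h, -⟩ := exists_data hG hp (by norm_num) h7 h49
  obtain ⟨P, hP⟩ := exists_sylow_eq hp h49 R hR
  have h1 := h.card_centralizer P
  have hk : k = 1 := by
    have h2 : centralizer (P : Set G) = R := by
      have : ((P : Subgroup G) : Set G) = (R : Set G) := congrArg _ hP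
      rw [← hC, ← this]
      rfl
    rw [h2, hR] at h1
    omega
  subst hk
  obtain ⟨K, hK, -⟩ := h.loc P
  have he := Nat.le_of_dvd (by norm_num) hK.dvd_pred
  have h3 := h.card_sylow_mul
  have h4 : Nat.card (Sylow 7 G) % 7 = 1 := card_sylow_modEq_one 7 G
  have h5 : Nat.card G / 7 = Nat.card (Sylow 7 G) * e := by
    rw [← h3, mul_one, show Nat.card (Sylow 7 G) * (7 * e) = 7 * (Nat.card (Sylow 7 G) * e) by ring,
      Nat.mul_div_cancel_left _ (by norm_num)]
  rw [h5, Nat.mul_mod, h4, one_mul, Nat.mod_mod] at hmod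
  have he3 : e = 3 := by omega
  subst he3
  exact h

end

/-- **`PSU_3(3)`** -/
theorem nb_u33 {F : Type} [Field F] [Fintype F] (hF : Fintype.card F = 3 ^ 2) : NB (PSU 3 F 3) := by
  have : Fact (Nat.Prime 7) := ⟨by norm_num⟩
  have hs : IsSimpleGroup (PSU 3 F 3) := S0283.result hF 3 le_rfl (by norm_num)
  have hcard : Nat.card (PSU 3 F 3) = 6048 :=
    SmallSimple.PSLFacts.card_psu_three_three (by rw [hF]; norm_num)
  have hG := SmallSimple.OrdersA.not_comm hcard (by norm_num)
  obtain ⟨R, hR, hC⟩ := Cfsg.Agent.H809.SelfCent.psu_selfcent 3 3 7 (by decide) F hF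
  have h := data_seven hG hcard (by norm_num) (by norm_num) (by norm_num) R hR hC
  obtain ⟨M, hM, ⟨D⟩⟩ := exists_block h (by norm_num) default (t := 2) (by norm_num)
  have h3 : ∀ z ∈ D.degs, decide (3 ≤ z.natAbs) = true := fun z hz => by
    rw [decide_eq_true_eq]
    exact degs_three_le (by rw [hcard]; norm_num) (by rw [hcard]; norm_num) D z hz
  have h4 := SmallSimple.DegreeCheck.degs_check D (h.card_eq _) rfl hcard
    (L := [(2, 5), (3, 3), (7, 1)]) (by norm_num)
    (by norm_num) (F := fun z => decide (3 ≤ z.natAbs)) (FX := fun _ => true)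
    (C := [-216, -48, -27, -6, 8, 36, 288]) (Ds := [-144, -32, -18, -4, 3, 24, 108, 864]) h3 rfl
    (by decide) (o := 216) (w := 1000) (M := 0) (wt := fun _ => 0) (V := 0) (Or.inl rfl)
    (P := fun l => [[-27, -6], [-27, 8], [-6, 8]].contains l) (by decide +kernel)
  have h5 : D.degs = [-27, -6] ∨ D.degs = [-27, 8] ∨ D.degs = [-6, 8] := by simpa using h4
  have h6 := dexc_mem D (by norm_num)
  have key : ∃ k : ℕ, 2 ^ (k + 1) ∈ charDegrees (PSU 3 F 3) := by
    rcases h5 with h5 | h5 | h5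
    · rw [h5] at h6
      exact ⟨4, h6⟩
    · exact ⟨2, degs_mem D (z := 8) (by rw [h5]; simp)⟩
    · exact ⟨2, degs_mem D (z := 8) (by rw [h5]; simp)⟩
  obtain ⟨k, χ, hχ⟩ := key
  refine NB.of_degree' hG χ.2 (k := k) ?_
  rw [Blocks.Knorr.charDegree_eq χ.2, hχ]
  push_cast
  rfl

/-- **`PSU_4(3)`** -/
theorem nb_u43 {F : Type} [Field F] [Fintype F] (hF : Fintype.card F = 3 ^ 2) : NB (PSU 4 F 3) := by
  have : Fact (Nat.Prime 7) := ⟨by norm_num⟩
  have h3 : Fact (Nat.Prime 3) := ⟨Nat.prime_three⟩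
  have hs : IsSimpleGroup (PSU 4 F 3) := S0283.result hF 4 (by norm_num) (by norm_num)
  have hcard : Nat.card (PSU 4 F 3) = 3265920 := CTwoTab.card_psu_four_three (by rw [hF]; norm_num)
  have hG := SmallSimple.OrdersA.not_comm hcard (by norm_num)
  obtain ⟨R, hR, hC⟩ := Cfsg.Agent.H809.SelfCent.psu_selfcent 4 3 7 (by decide) F hF
  have h := data_seven hG hcard (by norm_num) (by norm_num) (by norm_num) R hR hC
  obtain ⟨M, hM, ⟨D⟩⟩ := exists_block h (by norm_num) default (t := 2) (by norm_num)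
  -- degree 90
  obtain ⟨φ, hφ⟩ := PSU.Facts.exF (F := F) (q := 3) (n := 4) hF le_rfl
  have h90 : 90 ∈ charDegrees (PSU 4 F 3) := by
    refine ⟨φ, ?_⟩
    have e4 : PSU.Levi.uu 3 4 = 80 := by decide
    have e1 : PSU.Levi.uu 3 (4 - 3) = 4 := by decide
    rw [e4, e1] at hφ
    omega
  -- degree 729
  have hchar : CharP F 3 := by
    obtain ⟨p, hp⟩ := CharP.exists F
    have hpr : p.Prime := (CharP.char_is_prime_or_zero F p).resolve_right (CharP.char_ne_zero_of_finite F p)
    have : Fact p.Prime := ⟨hpr⟩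
    obtain ⟨s, hs0, hs⟩ := FiniteField.card F p
    rw [hF] at hs
    have h1 : p ∣ 3 ^ 2 := by rw [hs]; exact dvd_pow_self _ s.ne_zero
    have h2 : p = 3 := (Nat.prime_dvd_prime_iff_eq hpr Nat.prime_three).1 (hpr.dvd_of_dvd_pow h1)
    subst h2
    exact hp
  have hlie : IsLieTypeChar 3 (PSU 4 F 3) :=
    Or.inr (Or.inr (Or.inl ⟨F, inferInstance, inferInstance, hchar, 4, 3, hF, by norm_num, by norm_num,
      ⟨MulEquiv.refl _⟩⟩))
  have h729 : 729 ∈ charDegrees (PSU 4 F 3) := by
    obtain ⟨χ, hχ, h1, -⟩ := H167.StChar.hasSt_of_lie Nat.prime_three hlie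
    refine ⟨⟨χ, hχ⟩, Blocks.Knorr.charDegree_of_natCast ?_⟩
    change χ 1 = _
    rw [h1, hcard]
    have : (3265920 : ℕ).factorization 3 = 6 := by
      rw [Nat.factorization_def _ Nat.prime_three]
      rw [show (3265920 : ℕ) = 3 ^ 6 * 4480 by norm_num, padicValNat.mul (by norm_num) (by norm_num),
        padicValNat.prime_pow, padicValNat.eq_zero_of_not_dvd (by norm_num)]
    rw [this]
    norm_num
  have hP := h.card_eq (default : Sylow 7 (PSU 4 F 3))
  have hCP : Nat.card (centralizer ((default : Sylow 7 (PSU 4 F 3)) : Set (PSU 4 F 3))) = 7 := by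
    rw [h.card_centralizer]
  have c1 := degree_cases hM D hP hCP (by norm_num) h90 (by norm_num)
  have c2 := degree_cases hM D hP hCP (by norm_num) h729 (by norm_num)
  have hlen := D.length_degs
  obtain ⟨a, b, hab⟩ : ∃ a b, D.degs = [a, b] := List.length_eq_two.1 (by omega)
  have hspec := D.degs_spec hP
  have hexc := D.dexc_modEq hP (by norm_num)
  rw [← D.dexc_eq (by norm_num)] at hexc
  have hmem := dexc_mem D (by norm_num)
  rw [hab] at c1 c2 hspec hexc hmem
  simp only [List.mem_cons, List.not_mem_nil, or_false, exists_eq_or_imp, exists_eq_left, List.sum_cons,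
    List.sum_nil, add_zero, forall_eq_or_imp, forall_eq] at c1 c2 hspec hexc hmem
  obtain ⟨⟨ha, -, -⟩, ⟨hb, -, -⟩⟩ := hspec
  unfold Int.ModEq at ha hb hexc
  push_cast at ha hb hexc
  have hd : (1 + (a + b)).natAbs = 640 := by omega
  rw [hd] at hmem
  exact nb_of_defect_zero hmem (by norm_num) (by rw [hcard]; norm_num)

end Cfsg.Agent.H113.OB
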