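import Cfsg.Agent.H113.OB.Lift
import Cfsg.Agent.H113.OB.Seven
import Cfsg.Agent.S0281
import Mathlib.FieldTheory.Finite.GaloisField

/-!
# `PSU_n(q)`, `q` odd, has more than one 2-block (helper113)

`y = diag(-1,-1,1,…,1)`; for `q > 3` the block `SU_2(q) ≅ SL_2(q)`, for `q = 3` the block `SU_{n-2}(3)`.
-/

set_option autoImplicit false

open Cfsg

namespace Cfsg.Agent.H113.OB

open Cfsg.Agent Cfsg.Agent.H526.OB Subgroup Cfsg.Agent.Phan Cfsg.Agent.LieClassical.HermBasic
open Cfsg.Agent.LieClassical.SUBasic (suDiag coe_suDiag)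

/-- `-1` on the first two coordinates -/
def dd (F : Type*) [Field F] (n : ℕ) (i : Fin n) : F := if (i : ℕ) < 2 then -1 else 1

section

variable {F : Type*} [Field F] [Fintype F] {q n : ℕ}

omit [Fintype F] in
theorem dd_prod (hn : 2 ≤ n) : ∏ i, dd F n i = 1 := by
  obtain ⟨m, rfl⟩ : ∃ m, n = m + 2 := ⟨n - 2, by omega⟩
  rw [Fin.prod_univ_succ, Fin.prod_univ_succ]
  have h : ∏ i : Fin m, dd F (m + 2) i.succ.succ = 1 := by
    refine Finset.prod_eq_one fun i _ => ?_
    unfold dd
    rw [if_neg]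
    simp
  rw [h]
  simp [dd]

omit [Fintype F] in
theorem dd_pow (hq : Odd q) (i : Fin n) : dd F n i ^ (q + 1) = 1 := by
  unfold dd
  have : Even (q + 1) := hq.add_one
  split_ifs
  · exact this.neg_one_pow
  · exact one_pow _

/-- `diag(-1,-1,1,…,1)` -/
def yy (F : Type*) [Field F] {q n : ℕ} (hq : Odd q) (hn : 2 ≤ n) : SU n F q :=
  suDiag q (dd F n) (dd_prod hn) (dd_pow hq)

omit [Fintype F] in
theorem yy_sq (hq : Odd q) (hn : 2 ≤ n) : (yy F hq hn : SU n F q) ^ 2 ^ 1 = 1 := by
  apply mat_inj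
  rw [pow_one, pow_two, mat_mul, mat_one]
  change Matrix.diagonal (dd F n) * Matrix.diagonal (dd F n) = 1
  rw [Matrix.diagonal_mul_diagonal, ← Matrix.diagonal_one]
  congr 1
  funext i
  unfold dd
  split_ifs <;> simp

theorem neg_one_ne (hF : Fintype.card F = q ^ 2) (hq : Odd q) : (-1 : F) ≠ 1 := by
  intro h
  have h2 : ringChar F ≠ 2 := by
    intro h2
    have h3 := (FiniteField.even_card_iff_char_two (F := F)).1 h2
    rw [hF] at h3
    have := hq.pow (n := 2)
    rw [Nat.odd_iff] at this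
    omega
  exact Ring.neg_one_ne_one_of_char_ne_two h2 h

/-- **the block step** -/
theorem nb_step (hF : Fintype.card F = q ^ 2) (hq : Odd q) (hn : 3 ≤ n) {l : ℕ} {e : Fin l → Fin n}
    (he : Function.Injective e) {a b : F} (hab : a ≠ b) (hd1 : ∀ i, dd F n (e i) = a)
    (hd2 : ∀ x, x ∉ Set.range e → dd F n x = b) {x₀ : Fin n} (hx : ∀ i, x₀ ≠ e i)
    (h : NB (SU l F q)) : NB (PSU n F q) := by
  have hy : mat (yy F hq (by omega : 2 ≤ n) : SU n F q) = Matrix.diagonal (dd F n) := rfl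
  refine nb_lift (QuotientGroup.mk' (center (SU n F q))) (QuotientGroup.mk'_surjective _)
    (by rw [QuotientGroup.ker_mk']) (ext hF e he) (y := yy F hq (by omega)) ⟨1, yy_sq hq (by omega)⟩
    (Cfsg.Agent.GenPsu.ext_comm_diag hF he hd1 hd2 hy)
    (fun g hg s => Cfsg.Agent.GenPsu.ext_conj_diag hF he hab hd1 hd2 hy hg s) ?_ h
  rw [injective_iff_map_eq_one]
  intro s hs
  have h1 : ext hF e he s ∈ (QuotientGroup.mk' (center (SU n F q))).ker := hs
  rw [QuotientGroup.ker_mk'] at h1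
  exact Cfsg.Agent.GenPsu.ext_center hF he hn hx h1

/-- the first block `SU_2(q)` -/
theorem nb_of_su_two (hF : Fintype.card F = q ^ 2) (hq : Odd q) (hn : 3 ≤ n) (h : NB (SU 2 F q)) :
    NB (PSU n F q) := by
  refine nb_step hF hq hn (e := sh 0 (by omega : 0 + 2 ≤ n)) (sh_injective 0 _) (neg_one_ne hF hq) ?_ ?_
    (x₀ := ⟨2, by omega⟩) ?_ h
  · intro i
    unfold dd
    rw [if_pos]
    rw [sh_val]
    omega
  · intro x hx
    unfold dd
    rw [if_neg]
    intro h2
    exact hx ⟨⟨x, h2⟩, Fin.ext (by rw [sh_val]; simp)⟩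
  · intro i hi
    have := congrArg Fin.val hi
    rw [sh_val] at this
    simp only at this
    omega

/-- the second block `SU_{n-2}(q)` -/
theorem nb_of_su_sub (hF : Fintype.card F = q ^ 2) (hq : Odd q) (hn : 3 ≤ n) {m : ℕ} (hm : 2 + m = n)
    (h : NB (SU m F q)) : NB (PSU n F q) := by
  refine nb_step hF hq hn (e := sh 2 (by omega : 2 + m ≤ n)) (sh_injective 2 _) (neg_one_ne hF hq).symm ?_ ?_
    (x₀ := ⟨0, by omega⟩) ?_ h
  · intro i
    unfold dd
    rw [if_neg]
    rw [sh_val]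
    omega
  · intro x hx
    unfold dd
    rw [if_pos]
    by_contra h2
    exact hx ⟨⟨x - 2, by omega⟩, Fin.ext (by rw [sh_val]; simp only; omega)⟩
  · intro i hi
    have := congrArg Fin.val hi
    rw [sh_val] at this
    simp only at this
    omega

end

/-- `SU_2(q)` -/
theorem nb_su_two {F : Type} [Field F] [Fintype F] {q : ℕ} (hF : Fintype.card F = q ^ 2) (hq : Odd q) (hq3 : 3 < q)
    (hpsl2 : ∀ (K : Type) [Field K] [Fintype K], Odd (Fintype.card K) → 3 < Fintype.card K →
      NB (Matrix.ProjectiveSpecialLinearGroup (Fin 2) K)) : NB (SU 2 F q) := by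
  obtain ⟨p, k, hp, -, hqp, hk⟩ := exists_prime_pow hF
  have : Fact p.Prime := ⟨hp⟩
  have hfin : Finite (GaloisField p k) := Nat.finite_of_card_ne_zero (by
    rw [GaloisField.card p k hk.ne']
    exact (pow_pos hp.pos _).ne')
  let _ : Fintype (GaloisField p k) := Fintype.ofFinite _
  have hK : Fintype.card (GaloisField p k) = q := by
    rw [← Nat.card_eq_fintype_card, GaloisField.card p k hk.ne', hqp]
  obtain ⟨e⟩ := S0281.result hF hK
  have h1 : NB (Matrix.SpecialLinearGroup (Fin 2) (GaloisField p k)) :=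
    nb_of_center (hpsl2 (GaloisField p k) (by rw [hK]; exact hq) (by rw [hK]; exact hq3))
  first | exact NB.iso e h1 | exact NB.iso e.symm h1

/-- **`PSU_n(q)`, `q` odd**, relative to `PSL_2` -/
theorem nb_psu_all {F : Type} [Field F] [Fintype F] {q : ℕ} (hF : Fintype.card F = q ^ 2) (hq : Odd q)
    (hpsl2 : ∀ (K : Type) [Field K] [Fintype K], Odd (Fintype.card K) → 3 < Fintype.card K →
      NB (Matrix.ProjectiveSpecialLinearGroup (Fin 2) K)) (n : ℕ) (hn : 3 ≤ n) : NB (PSU n F q) := by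
  by_cases hq3 : 3 < q
  · exact nb_of_su_two hF hq hn (nb_su_two hF hq hq3 hpsl2)
  · have hq2 := two_le hF
    have h3 : q = 3 := by
      obtain ⟨k, hk⟩ := hq
      omega
    subst h3
    induction n using Nat.strong_induction_on with
    | _ n ih =>
      rcases Nat.lt_or_ge n 5 with h5 | h5
      · have : n = 3 ∨ n = 4 := by omega
        rcases this with rfl | rfl
        · exact nb_u33 hF
        · exact nb_u43 hF
      · exact nb_of_su_sub hF hq hn (m := n - 2) (by omega) (nb_of_center (ih (n - 2) (by omega) (by omega)))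

/-- **task 1713** -/
theorem nb_psu {F : Type} [Field F] [Fintype F] {n q : ℕ} (hF : Fintype.card F = q ^ 2) (hq : Odd q)
    (hn : 3 ≤ n) (hpsl2 : ∀ (K : Type) [Field K] [Fintype K], Odd (Fintype.card K) → 3 < Fintype.card K →
      NB (Matrix.ProjectiveSpecialLinearGroup (Fin 2) K)) : NB (PSU n F q) :=
  nb_psu_all hF hq hpsl2 n hn

end Cfsg.Agent.H113.OB
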